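import Groth.Agent.Lib.DescInt13.God
import Mathlib.Algebra.Homology.ShortComplex.Ab
import Mathlib.Algebra.Homology.DerivedCategory.Ext.ExactSequences
import Mathlib.Algebra.Homology.DerivedCategory.Ext.EnoughInjectives

/-!
# The iterated Godement complex of global sections computes etale cohomology
-/

set_option autoImplicit false
set_option linter.style.haveILetI false
set_option backward.isDefEq.respectTransparency false
set_option backward.isDefEq.respectTransparency.types false

universe u

open CategoryTheory CategoryTheory.Limits AlgebraicGeometry Opposite Abelian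
open Groth.Agent.EtStalk

noncomputable section

namespace Groth.Agent.DescInt13

variable {Y : Scheme.{u}}

/-- The quotient of the Godement sheaf. -/
def qq (G : EtCoh.Ab Y) : EtCoh.Ab Y := cokernel (unit G)

/-- The projection. -/
def qπ (G : EtCoh.Ab Y) : godSh (stG G) ⟶ qq G := cokernel.π (unit G)

instance (G : EtCoh.Ab Y) : Epi (qπ G) := inferInstanceAs (Epi (cokernel.π (unit G)))

lemma unit_qπ (G : EtCoh.Ab Y) : unit G ≫ qπ G = 0 := cokernel.condition (unit G)

/-- Functoriality of the quotient. -/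
def qMap {G H : EtCoh.Ab Y} (a : G ⟶ H) : qq G ⟶ qq H :=
  cokernel.desc (unit G) (godMap (fun i => (EtCoh.stalk (geo i)).map a) ≫ qπ H) (by
    rw [← Category.assoc, ← unit_nat, Category.assoc, unit_qπ, comp_zero])

lemma qπ_qMap {G H : EtCoh.Ab Y} (a : G ⟶ H) :
    qπ G ≫ qMap a = godMap (fun i => (EtCoh.stalk (geo i)).map a) ≫ qπ H := cokernel.π_desc _ _ _

lemma qMap_comp {G H K : EtCoh.Ab Y} (a : G ⟶ H) (b : H ⟶ K) : qMap a ≫ qMap b = qMap (a ≫ b) := by
  rw [← cancel_epi (qπ G), reassoc_of% (qπ_qMap a), qπ_qMap b, qπ_qMap (a ≫ b), ← Category.assoc]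
  congr 1
  ext V s
  funext i z
  exact (ConcreteCategory.congr_hom ((EtCoh.stalk (geo i)).map_comp a b) (s i z)).symm

lemma qMap_zero {G H : EtCoh.Ab Y} : qMap (0 : G ⟶ H) = 0 := by
  rw [← cancel_epi (qπ G), qπ_qMap, comp_zero]
  have : godMap (fun i => (EtCoh.stalk (geo i)).map (0 : G ⟶ H)) = 0 := by
    ext V s
    funext i z
    exact ConcreteCategory.congr_hom ((EtCoh.stalk (geo i)).map_zero G H) (s i z)
  rw [this, zero_comp]

/-- The basic short exact sequence. -/
abbrev godSeq (G : EtCoh.Ab Y) : ShortComplex (EtCoh.Ab Y) := ShortComplex.mk (unit G) (qπ G) (unit_qπ G)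

lemma shortExact_godSeq (G : EtCoh.Ab Y) : (godSeq G).ShortExact where
  exact := ShortComplex.exact_cokernel (unit G)

/-- Global sections as cohomology in degree zero. -/
def secEquiv (G : EtCoh.Ab Y) : EtCoh.H Y G 0 ≃+ G.obj.obj (op (EtCoh.top Y)) :=
  Ext.addEquiv₀.trans (AddEquiv.ofBijective
    (AddMonoidHom.mk' (fun a : EtCoh.const Y ℤ ⟶ G => a.hom.app (op (EtCoh.top Y)) (oneSec Y)) fun _ _ => rfl)
    ⟨fun _ _ h => const_hom_ext h, fun s => by
      refine ⟨((EtCore.constAdj Y).homEquiv _ _).symm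
        ((AddCommGrpCat.uliftZMultiplesAddEquiv _).symm s), ?_⟩
      have h := ConcreteCategory.congr_hom (Equiv.apply_symm_apply ((EtCore.constAdj Y).homEquiv
        (AddCommGrpCat.of (ULift.{u + 1} ℤ)) G) ((AddCommGrpCat.uliftZMultiplesAddEquiv _).symm s))
        (ULift.up 1)
      rw [Adjunction.homEquiv_unit] at h
      exact h.trans ((AddCommGrpCat.uliftZMultiplesAddEquiv _).apply_symm_apply s)⟩)

lemma secEquiv_mk₀ {G : EtCoh.Ab Y} (a : EtCoh.const Y ℤ ⟶ G) :
    secEquiv G (Ext.mk₀ a) = a.hom.app (op (EtCoh.top Y)) (oneSec Y) :=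
  congrArg (fun b : EtCoh.const Y ℤ ⟶ G => b.hom.app (op (EtCoh.top Y)) (oneSec Y))
    ((Ext.addEquiv₀ (X := EtCoh.const Y ℤ) (Y := G)).apply_symm_apply a)

lemma secEquiv_comp {G H : EtCoh.Ab Y} (a : G ⟶ H) (x : EtCoh.H Y G 0) :
    secEquiv H (x.comp (Ext.mk₀ a) (add_zero 0)) = a.hom.app (op (EtCoh.top Y)) (secEquiv G x) := by
  obtain ⟨b, rfl⟩ := (Ext.mk₀_bijective _ _).2 x
  rw [Ext.mk₀_comp_mk₀, secEquiv_mk₀, secEquiv_mk₀]
  rfl

/-- A resolution step of a Godement sheaf by Godement sheaves with injective values. -/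
theorem exists_godSeq_injective (A : Y → AddCommGrpCat.{u + 1}) :
    ∃ (I C : Y → AddCommGrpCat.{u + 1}) (f : godSh A ⟶ godSh I) (g : godSh I ⟶ godSh C) (w : f ≫ g = 0),
      (ShortComplex.mk f g w).ShortExact ∧ Injective (godSh I) ∧
      ∀ c, ∃ b, g.hom.app (op (EtCoh.top Y)) b = c := by
  let I := fun i => Injective.under (A i)
  let C := fun i => cokernel (Injective.ι (A i))
  let m := fun i => Injective.ι (A i)
  let p := fun i => cokernel.π (Injective.ι (A i))
  have hm : ∀ i, Function.Injective (m i) := fun i => (AddCommGrpCat.mono_iff_injective _).1 inferInstance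
  have hp : ∀ i, Function.Surjective (p i) := fun i => (AddCommGrpCat.epi_iff_surjective _).1 inferInstance
  have hex : ∀ i (b : I i), p i b = 0 → ∃ a, m i a = b := fun i b hb =>
    (ShortComplex.ab_exact_iff _).1 (ShortComplex.exact_cokernel (Injective.ι (A i))) b hb
  let S : ShortComplex (EtCoh.Ab Y) := ShortComplex.mk (godMap m) (godMap p) (by
    ext V s
    funext i z
    exact ConcreteCategory.congr_hom (cokernel.condition (Injective.ι (A i))) (s i z))
  haveI : Mono S.f := by
    rw [mono_iff_app_injective]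
    intro V s t h
    funext i z
    exact hm i (congrFun (congrFun h i) z)
  have hsurj : ∀ (V : Y.Etale) (c : S.X₃.obj.obj (op V)), ∃ b, S.g.hom.app (op V) b = c := fun V c => by
    choose b hb using fun i z => hp i ((c : ∀ i, fib (geo i) V → C i) i z)
    exact ⟨b, funext fun i => funext fun z => hb i z⟩
  haveI : Epi S.g := by
    rw [← Sheaf.isLocallySurjective_iff_epi']
    refine ⟨fun {W} s => ?_⟩
    convert GrothendieckTopology.top_mem Y.smallEtaleTopology W
    refine top_unique fun V g _ => ?_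
    obtain ⟨b, hb⟩ := hsurj V (S.X₃.obj.map g.op s)
    exact ⟨b, hb⟩
  have hS : S.ShortExact :=
    { exact := by
        refine ShortComplex.exact_of_f_is_kernel _ (KernelFork.IsLimit.ofι' S.f S.zero fun {W} k hk => ?_)
        have h0 : ∀ (V : Y.Etaleᵒᵖ) (w : W.obj.obj V) (i : Y) (z : fib (geo i) V.unop),
            ∃ a, m i a = (k.hom.app V w : ∀ i, fib (geo i) V.unop → I i) i z := fun V w i z =>
          hex i _ (congrFun (congrFun (congrArg (fun t : W ⟶ S.X₃ => t.hom.app V w) hk) i) z)
        choose a ha using h0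
        refine ⟨⟨{ app := fun V => AddCommGrpCat.ofHom (AddMonoidHom.mk' (fun w i z => a V w i z) fun w w' =>
            funext fun i => funext fun z => hm i ?_)
                   naturality := fun V V' g => ?_ }⟩, ?_⟩
        · show m i (a V (w + w') i z) = m i (a V w i z + a V w' i z)
          rw [map_add, ha, ha, ha, map_add]
          rfl
        · refine ConcreteCategory.hom_ext _ _ fun w => funext fun i => funext fun z => hm i ?_
          show m i (a V' (W.obj.map g w) i z) = m i (a V w i _)
          rw [ha, ha]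
          exact congrFun (congrFun (ConcreteCategory.congr_hom (k.hom.naturality g) w) i) z
        · ext V w
          funext i z
          exact ha V w i z }
  haveI : Injective S.X₂ := injective_godSh I
  exact ⟨I, C, S.f, S.g, S.zero, hS, inferInstanceAs (Injective S.X₂), fun c => hsurj _ c⟩

/-- Godement sheaves have no higher cohomology. -/
theorem subsingleton_H_godSh : ∀ (n : ℕ) (A : Y → AddCommGrpCat.{u + 1}),
    Subsingleton (EtCoh.H Y (godSh A) (n + 1)) := by
  intro n
  induction n with
  | zero =>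
    intro A
    obtain ⟨I, C, f, g, w, hS, _, hsurj⟩ := exists_godSeq_injective A
    refine subsingleton_of_forall_eq 0 fun x => ?_
    obtain ⟨y, rfl⟩ := Ext.covariant_sequence_exact₁ _ hS x (Ext.eq_zero_of_injective _) (n₀ := 0) rfl
    obtain ⟨b, hb⟩ := hsurj (secEquiv (godSh C) y)
    have : y = ((secEquiv (godSh I)).symm b).comp (Ext.mk₀ g) (add_zero 0) := by
      apply (secEquiv (godSh C)).injective
      rw [secEquiv_comp, AddEquiv.apply_symm_apply]
      exact hb.symm
    rw [this, Ext.comp_assoc_of_second_deg_zero, hS.comp_extClass, Ext.comp_zero]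
  | succ n ih =>
    intro A
    obtain ⟨I, C, f, g, w, hS, _, -⟩ := exists_godSeq_injective A
    refine subsingleton_of_forall_eq 0 fun x => ?_
    obtain ⟨y, rfl⟩ := Ext.covariant_sequence_exact₁ _ hS x (Ext.eq_zero_of_injective _) (n₀ := n + 1) rfl
    haveI := ih C
    rw [Subsingleton.elim y 0, Ext.zero_comp]

/-- The iterated quotients. -/
def qit : ℕ → EtCoh.Ab Y → EtCoh.Ab Y
  | 0, G => G
  | n + 1, G => qq (qit n G)

/-- Functoriality. -/
def qitMap : ∀ (n : ℕ) {G H : EtCoh.Ab Y}, (G ⟶ H) → (qit n G ⟶ qit n H)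
  | 0, _, _, a => a
  | n + 1, _, _, a => qMap (qitMap n a)

lemma qitMap_comp_zero : ∀ (n : ℕ) {G H K : EtCoh.Ab Y} (a : G ⟶ H) (b : H ⟶ K), a ≫ b = 0 →
    qitMap n a ≫ qitMap n b = 0
  | 0, _, _, _, _, _, h => h
  | n + 1, _, _, _, a, b, h => (qMap_comp _ _).trans
      ((congrArg qMap (qitMap_comp_zero n a b h)).trans qMap_zero)

/-- The families of stalks. -/
abbrev stFam (G : EtCoh.Ab Y) : AddCommGrpCat.{u + 1} := AddCommGrpCat.of (∀ i : Y, stG G i)

/-- The unique element of the fibre of the whole scheme. -/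
def topPt (i : Y) : fib (geo i) (EtCoh.top Y) := Over.homMk (geo i) (Category.comp_id _)

lemma topPt_eq (i : Y) (z : fib (geo i) (EtCoh.top Y)) : z = topPt i := by
  refine Over.OverMorphism.ext ?_
  have h := Over.w z
  exact (Category.comp_id _).symm.trans (h.trans (Category.comp_id _).symm) |>.trans (Category.comp_id _)

/-- A family as a global section of the Godement sheaf. -/
def secOf {A : Y → AddCommGrpCat.{u + 1}} (c : ∀ i, A i) : (godSh A).obj.obj (op (EtCoh.top Y)) :=
  fun i _ => c i

/-- The germs of a global section. -/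
def germFam (G : EtCoh.Ab Y) : G.obj.obj (op (EtCoh.top Y)) →+ stFam G :=
  AddMonoidHom.mk' (fun s i => germ (geo i) G (topPt i) s) fun s t =>
    funext fun i => map_add (germ (geo i) G (topPt i)).hom s t

lemma germFam_injective (G : EtCoh.Ab Y) : Function.Injective (germFam G) := fun s t h =>
  ext_geo s t fun i z => by rw [topPt_eq i z]; exact congrFun h i

lemma unit_eq_secOf (G : EtCoh.Ab Y) (s : G.obj.obj (op (EtCoh.top Y))) :
    (unit G).hom.app (op (EtCoh.top Y)) s = secOf (germFam G s) :=
  funext fun i => funext fun z => (congrArg (fun z => germ (geo i) G z s) (topPt_eq i z)).trans rfl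

/-- The differential. -/
def colV (G : EtCoh.Ab Y) : stFam G →+ stFam (qq G) :=
  (germFam (qq G)).comp (AddMonoidHom.mk' (fun c => (qπ G).hom.app (op (EtCoh.top Y)) (secOf c)) fun c d =>
    map_add ((qπ G).hom.app (op (EtCoh.top Y))).hom (secOf c) (secOf d))

lemma colV_germFam (G : EtCoh.Ab Y) (s : G.obj.obj (op (EtCoh.top Y))) : colV G (germFam G s) = 0 := by
  show germFam (qq G) ((qπ G).hom.app _ (secOf (germFam G s))) = 0
  rw [← unit_eq_secOf, show (qπ G).hom.app (op (EtCoh.top Y)) ((unit G).hom.app (op (EtCoh.top Y)) s) = 0 from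
    congrArg (fun a : G ⟶ qq G => a.hom.app (op (EtCoh.top Y)) s) (unit_qπ G), map_zero]

lemma colV_colV (G : EtCoh.Ab Y) (c : stFam G) : colV (qq G) (colV G c) = 0 := colV_germFam _ _

lemma colV_nat {G H : EtCoh.Ab Y} (a : G ⟶ H) (c : stFam G) :
    colV H (fun i => (EtCoh.stalk (geo i)).map a (c i)) =
      fun i => (EtCoh.stalk (geo i)).map (qMap a) (colV G c i) := by
  funext i
  refine Eq.trans ?_ (germ_nat (geo i) (qMap a) (topPt i) _).symm
  refine congrArg (germ (geo i) (qq H) (topPt i)) ?_
  exact (congrArg (fun b : godSh (stG G) ⟶ qq H => b.hom.app (op (EtCoh.top Y)) (secOf c)) (qπ_qMap a)).symm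

lemma exists_germFam_of_colV (G : EtCoh.Ab Y) (c : stFam G) (hc : colV G c = 0) :
    ∃ s, germFam G s = c := by
  have h0 : (qπ G).hom.app (op (EtCoh.top Y)) (secOf c) = 0 :=
    germFam_injective _ (hc.trans (map_zero _).symm)
  obtain ⟨y, hy⟩ := Ext.covariant_sequence_exact₂ (EtCoh.const Y ℤ) (shortExact_godSeq G)
    ((secEquiv (godSh (stG G))).symm (secOf c)) (by
      apply (secEquiv (qq G)).injective
      refine (secEquiv_comp (qπ G) _).trans ?_
      rw [AddEquiv.apply_symm_apply, h0, map_zero])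
  refine ⟨secEquiv G y, funext fun i => ?_⟩
  have := congrArg (secEquiv (godSh (stG G))) hy
  rw [secEquiv_comp, AddEquiv.apply_symm_apply] at this
  exact congrFun (congrFun this i) (topPt i)

/-- The column complex. -/
def colCx (G : EtCoh.Ab Y) : CochainComplex AddCommGrpCat.{u + 1} ℕ :=
  CochainComplex.of (fun q => stFam (qit q G)) (fun q => AddCommGrpCat.ofHom (colV (qit q G))) fun q => by
    refine ConcreteCategory.hom_ext _ _ fun c => ?_
    exact colV_colV _ c

lemma colCx_d (G : EtCoh.Ab Y) (q : ℕ) (x : stFam (qit q G)) :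
    (colCx G).d q (q + 1) x = colV (qit q G) x :=
  congrArg (fun g => g x) (CochainComplex.of_d (fun q => stFam (qit q G))
    (fun q => AddCommGrpCat.ofHom (colV (qit q G))) q)

/-- The connecting map. -/
def delta (G : EtCoh.Ab Y) (n : ℕ) : EtCoh.H Y (qq G) n →+ EtCoh.H Y G (n + 1) :=
  (shortExact_godSeq G).extClass.postcomp (EtCoh.const Y ℤ) rfl

lemma delta_surjective (G : EtCoh.Ab Y) (n : ℕ) : Function.Surjective (delta G n) := fun x => by
  haveI := subsingleton_H_godSh n (stG G)
  exact Ext.covariant_sequence_exact₁ _ (shortExact_godSeq G) x (Subsingleton.elim _ _) rfl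

lemma delta_bijective (G : EtCoh.Ab Y) (n : ℕ) : Function.Bijective (delta G (n + 1)) := by
  refine ⟨(injective_iff_map_eq_zero _).2 fun x hx => ?_, delta_surjective G (n + 1)⟩
  obtain ⟨y, rfl⟩ := Ext.covariant_sequence_exact₃ _ (shortExact_godSeq G) x rfl hx
  haveI := subsingleton_H_godSh n (stG G)
  rw [Subsingleton.elim y 0, Ext.zero_comp]

theorem nonempty_shift (G : EtCoh.Ab Y) : ∀ q m : ℕ,
    Nonempty (EtCoh.H Y (qit q G) (m + 1) ≃+ EtCoh.H Y G (q + m + 1))
  | 0, m => by rw [Nat.zero_add]; exact ⟨AddEquiv.refl _⟩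
  | q + 1, m => by
    obtain ⟨e⟩ := nonempty_shift G q (m + 1)
    rw [show q + 1 + m + 1 = q + (m + 1) + 1 by omega]
    exact ⟨(AddEquiv.ofBijective _ (delta_bijective (qit q G) m)).trans e⟩

theorem nonempty_colCx_homology (G : EtCoh.Ab Y) : ∀ q : ℕ,
    Nonempty ((colCx G).homology q ≅ AddCommGrpCat.of (EtCoh.H Y G q))
  | 0 => by
    let S := (colCx G).sc' 0 0 1
    have hb : S.abToCycles.range = ⊥ := by
      rw [AddSubgroup.eq_bot_iff_forall]
      rintro _ ⟨b, rfl⟩
      refine Subtype.ext ?_
      show (colCx G).d 0 0 b = 0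
      rw [(colCx G).shape 0 0 (by simp)]
      rfl
    let φ : EtCoh.H Y G 0 →+ S.g.hom.ker :=
      AddMonoidHom.mk' (fun x => ⟨germFam G (secEquiv G x), (colCx_d G 0 _).trans (colV_germFam G _)⟩)
        fun x y => Subtype.ext (by simp only [map_add]; rfl)
    have hφ : Function.Bijective φ :=
      ⟨fun x y h => (secEquiv G).injective (germFam_injective G (congrArg Subtype.val h)), fun c => by
        obtain ⟨s, hs⟩ := exists_germFam_of_colV G c.1 ((colCx_d G 0 c.1).symm.trans c.2)
        exact ⟨(secEquiv G).symm s, Subtype.ext ((congrArg (germFam G) ((secEquiv G).apply_symm_apply s)).trans hs)⟩⟩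
    exact ⟨(colCx G).homologyIsoSc' 0 0 1 (by simp) (by simp) ≪≫ S.abHomologyIso ≪≫
      AddEquiv.toAddCommGrpIso (X := AddCommGrpCat.of _) (Y := AddCommGrpCat.of _)
        ((QuotientAddGroup.quotientAddEquivOfEq hb).trans (QuotientAddGroup.quotientBot.trans
          (AddEquiv.ofBijective φ hφ).symm))⟩
  | q + 1 => by
    let S := (colCx G).sc' q (q + 1) (q + 2)
    let G' := qit q G
    let κ : EtCoh.H Y (qq G') 0 →+ S.g.hom.ker :=
      AddMonoidHom.mk' (fun x => ⟨germFam (qq G') (secEquiv (qq G') x),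
        (colCx_d G (q + 1) _).trans (colV_germFam _ _)⟩) fun x y => Subtype.ext (by simp only [map_add]; rfl)
    have hκ : Function.Bijective κ :=
      ⟨fun x y h => (secEquiv _).injective (germFam_injective _ (congrArg Subtype.val h)), fun c => by
        obtain ⟨s, hs⟩ := exists_germFam_of_colV (qq G') c.1 ((colCx_d G (q + 1) c.1).symm.trans c.2)
        exact ⟨(secEquiv _).symm s, Subtype.ext ((congrArg (germFam _) ((secEquiv _).apply_symm_apply s)).trans hs)⟩⟩
    let e := AddEquiv.ofBijective κ hκ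
    let φ : S.g.hom.ker →+ EtCoh.H Y G' 1 := (delta G' 0).comp e.symm.toAddMonoidHom
    have hs : Function.Surjective φ := (delta_surjective G' 0).comp e.symm.surjective
    have hk : φ.ker = S.abToCycles.range := by
      ext c
      obtain ⟨x, rfl⟩ := e.surjective c
      rw [AddMonoidHom.mem_ker, show φ (e x) = delta G' 0 x from congrArg (delta G' 0) (e.symm_apply_apply x)]
      constructor
      · intro hx
        obtain ⟨y, hy⟩ := Ext.covariant_sequence_exact₃ _ (shortExact_godSeq G') x rfl hx
        refine ⟨fun i => secEquiv (godSh (stG G')) y i (topPt i), Subtype.ext ?_⟩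
        refine (colCx_d G q _).trans ?_
        show germFam (qq G') ((qπ G').hom.app _ (secOf _)) = germFam (qq G') (secEquiv (qq G') x)
        refine congrArg _ ?_
        rw [← hy, secEquiv_comp]
        refine congrArg _ (funext fun i => funext fun z => ?_)
        rw [topPt_eq i z]
        rfl
      · rintro ⟨b, hb⟩
        have hx : x = ((secEquiv (godSh (stG G'))).symm (secOf b)).comp (Ext.mk₀ (qπ G')) (add_zero 0) := by
          apply (secEquiv (qq G')).injective
          rw [secEquiv_comp, AddEquiv.apply_symm_apply]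
          exact germFam_injective _ ((congrArg Subtype.val hb).symm.trans (colCx_d G q b))
        rw [hx]
        refine (Ext.comp_assoc_of_second_deg_zero _ _ _ (rfl : 0 + 1 = 1)).trans ?_
        rw [(shortExact_godSeq G').comp_extClass, Ext.comp_zero]
    obtain ⟨f⟩ := nonempty_shift G q 0
    exact ⟨(colCx G).homologyIsoSc' q (q + 1) (q + 2) (by simp) (by simp) ≪≫ S.abHomologyIso ≪≫
      AddEquiv.toAddCommGrpIso (X := AddCommGrpCat.of _) (Y := AddCommGrpCat.of _)
        (((QuotientAddGroup.quotientAddEquivOfEq hk.symm).trans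
          (QuotientAddGroup.quotientKerEquivOfSurjective φ hs)).trans f)⟩

end Groth.Agent.DescInt13

end
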