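import Groth.Agent.Lib.DescInt13.GodCoh
import Groth.Agent.Lib.DblCx16.SpecSeq
import Groth.Agent.Lib.DblCx16.Aug
import Groth.Prelude.Def_SpSeq

/-!
# The spectral sequence of a resolution of an etale sheaf
-/

set_option autoImplicit false
set_option linter.style.haveILetI false
set_option backward.isDefEq.respectTransparency false
set_option backward.isDefEq.respectTransparency.types false

universe u

open CategoryTheory CategoryTheory.Limits AlgebraicGeometry Opposite
open Groth.Agent.EtStalk Groth.Agent.DblCx16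

noncomputable section

namespace Groth.Agent.DescInt13

variable {Y : Scheme.{u}}

/-- A sequence is exact at the geometric points, with nothing before it. -/
structure PtExact (L : ℕ → EtCoh.Ab Y) (d : ∀ p, L p ⟶ L (p + 1)) : Prop where
  inj : ∀ (i : Y) (x : stG (L 0) i), (EtCoh.stalk (geo i)).map (d 0) x = 0 → x = 0
  exact : ∀ (p : ℕ) (i : Y) (x : stG (L (p + 1)) i), (EtCoh.stalk (geo i)).map (d (p + 1)) x = 0 →
    ∃ y, (EtCoh.stalk (geo i)).map (d p) y = x

lemma stalk_comp_apply (i : Y) {G H K : EtCoh.Ab Y} (a : G ⟶ H) (b : H ⟶ K) (x : stG G i) :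
    (EtCoh.stalk (geo i)).map b ((EtCoh.stalk (geo i)).map a x) = (EtCoh.stalk (geo i)).map (a ≫ b) x :=
  (ConcreteCategory.congr_hom ((EtCoh.stalk (geo i)).map_comp a b) x).symm

lemma stalk_comp_zero (i : Y) {G H K : EtCoh.Ab Y} (a : G ⟶ H) (b : H ⟶ K) (h : a ≫ b = 0) (x : stG G i) :
    (EtCoh.stalk (geo i)).map b ((EtCoh.stalk (geo i)).map a x) = 0 := by
  rw [stalk_comp_apply, h, Functor.map_zero]
  rfl

/-- The Godement sheaves of a sequence exact at the points are exact at the points. -/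
theorem ptExact_godSh {L : ℕ → EtCoh.Ab Y} {d : ∀ p, L p ⟶ L (p + 1)} (h : PtExact L d) :
    PtExact (fun p => godSh (stG (L p))) (fun p => godMap fun i => (EtCoh.stalk (geo i)).map (d p)) where
  inj i x hx := by
    obtain ⟨U, z, s, rfl⟩ := germ_surjective _ _ x
    rw [germ_nat] at hx
    obtain ⟨V, g, y, hy, hs⟩ := (germ_eq_iff _ _ z _ 0).1 (hx.trans (map_zero _).symm)
    rw [map_zero] at hs
    rw [← hy, ← germ_map]
    refine (congrArg (germ (geo i) (godSh (stG (L 0))) y) ?_).trans (map_zero _)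
    funext j w
    exact h.inj j _ (congrFun (congrFun hs j) w)
  exact p i x hx := by
    obtain ⟨U, z, s, rfl⟩ := germ_surjective _ _ x
    rw [germ_nat] at hx
    obtain ⟨V, g, y, hy, hs⟩ := (germ_eq_iff _ _ z _ 0).1 (hx.trans (map_zero _).symm)
    rw [map_zero] at hs
    choose t ht using fun j w => h.exact p j ((godSh (stG (L (p + 1)))).obj.map g.op s j w)
      (congrFun (congrFun hs j) w)
    refine ⟨germ (geo i) (godSh (stG (L p))) y t, ?_⟩
    rw [germ_nat, ← hy, ← germ_map]
    refine congrArg (germ (geo i) (godSh (stG (L (p + 1)))) y) ?_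
    funext j w
    exact ht j w

/-- The quotients of a sequence exact at the points are exact at the points. -/
theorem ptExact_qq {L : ℕ → EtCoh.Ab Y} {d : ∀ p, L p ⟶ L (p + 1)} (hd : ∀ p, d p ≫ d (p + 1) = 0)
    (h : PtExact L d) : PtExact (fun p => qq (L p)) (fun p => qMap (d p)) := by
  have hg := ptExact_godSh h
  have surj : ∀ G (i : Y) (x : stG (qq G) i), ∃ g, (EtCoh.stalk (geo i)).map (qπ G) g = x := fun G i =>
    (AddCommGrpCat.epi_iff_surjective _).1
      (((shortExact_godSeq G).map_of_exact (EtCoh.stalk (geo i))).epi_g)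
  have inj : ∀ G (i : Y), Function.Injective ((EtCoh.stalk (geo i)).map (unit G)) := fun G i =>
    (AddCommGrpCat.mono_iff_injective _).1
      (((shortExact_godSeq G).map_of_exact (EtCoh.stalk (geo i))).mono_f)
  have mid : ∀ G (i : Y) g, (EtCoh.stalk (geo i)).map (qπ G) g = 0 →
      ∃ a, (EtCoh.stalk (geo i)).map (unit G) a = g := fun G i =>
    (ShortComplex.ab_exact_iff _).1 ((shortExact_godSeq G).exact.map (EtCoh.stalk (geo i)))
  -- a preimage whose differential vanishes can be corrected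
  have fix' : ∀ (p : ℕ) (i : Y) (g : stG (godSh (stG (L p))) i),
      (EtCoh.stalk (geo i)).map (qMap (d p)) ((EtCoh.stalk (geo i)).map (qπ (L p)) g) = 0 →
      ∃ b, (EtCoh.stalk (geo i)).map (godMap fun j => (EtCoh.stalk (geo j)).map (d p))
        (g - (EtCoh.stalk (geo i)).map (unit (L p)) b) = 0 := fun p i g hx => by
    rw [stalk_comp_apply, qπ_qMap, ← stalk_comp_apply] at hx
    obtain ⟨a, ha⟩ := mid _ i _ hx
    have hnat : ∀ (q : ℕ) (c : stG (L q) i),
        (EtCoh.stalk (geo i)).map (godMap fun j => (EtCoh.stalk (geo j)).map (d q))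
          ((EtCoh.stalk (geo i)).map (unit (L q)) c) =
        (EtCoh.stalk (geo i)).map (unit (L (q + 1))) ((EtCoh.stalk (geo i)).map (d q) c) := fun q c => by
      rw [stalk_comp_apply, ← unit_nat, ← stalk_comp_apply]
    have hda : (EtCoh.stalk (geo i)).map (d (p + 1)) a = 0 := by
      apply inj _ i
      rw [map_zero, ← hnat, ha]
      refine stalk_comp_zero i _ _ ?_ g
      ext V s
      funext j w
      exact stalk_comp_zero j _ _ (hd p) (s j w)
    obtain ⟨b, rfl⟩ := h.exact p i a hda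
    exact ⟨b, by rw [map_sub, hnat, ha, sub_self]⟩
  have hzero : ∀ G (i : Y) b, (EtCoh.stalk (geo i)).map (qπ G) ((EtCoh.stalk (geo i)).map (unit G) b) = 0 :=
    fun G i b => stalk_comp_zero i _ _ (unit_qπ G) b
  refine ⟨fun i x hx => ?_, fun p i x hx => ?_⟩
  · obtain ⟨g, rfl⟩ := surj _ i x
    obtain ⟨b, hb⟩ := fix' 0 i g hx
    rw [sub_eq_zero.1 (hg.inj i _ hb)]
    exact hzero _ i b
  · obtain ⟨g, rfl⟩ := surj _ i x
    obtain ⟨b, hb⟩ := fix' (p + 1) i g hx
    obtain ⟨e, he⟩ := hg.exact p i _ hb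
    refine ⟨(EtCoh.stalk (geo i)).map (qπ (L p)) e, ?_⟩
    rw [stalk_comp_apply, qπ_qMap, ← stalk_comp_apply, he, map_sub, hzero, sub_zero]

theorem ptExact_qit {L : ℕ → EtCoh.Ab Y} {d : ∀ p, L p ⟶ L (p + 1)} (hd : ∀ p, d p ≫ d (p + 1) = 0)
    (h : PtExact L d) : ∀ q, PtExact (fun p => qit q (L p)) (fun p => qitMap q (d p))
  | 0 => h
  | q + 1 => ptExact_qq (fun p => qitMap_comp_zero q _ _ (hd p)) (ptExact_qit hd h q)

section Seq

variable (F : EtCoh.Ab Y) (K : ℕ → EtCoh.Ab Y) (dK : ∀ p, K p ⟶ K (p + 1)) (ε : F ⟶ K 0)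

/-- The augmented sequence. -/
def augL : ℕ → EtCoh.Ab Y
  | 0 => F
  | p + 1 => K p

/-- The augmented differential. -/
def augD : ∀ p, augL F K p ⟶ augL F K (p + 1)
  | 0 => ε
  | p + 1 => dK p

variable {F K dK ε} (hε : ε ≫ dK 0 = 0) (hd : ∀ p, dK p ≫ dK (p + 1) = 0)

include hε hd in
lemma augD_augD : ∀ p, augD F K dK ε p ≫ augD F K dK ε (p + 1) = 0
  | 0 => hε
  | p + 1 => hd p

/-- The double complex. -/
def dblRes : Dbl.{u + 1} where
  X p q := stFam (qit q (augL F K p))
  h p q := AddMonoidHom.mk' (fun c i => (EtCoh.stalk (geo i)).map (qitMap q (augD F K dK ε p)) (c i))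
    fun c d => funext fun i => map_add ((EtCoh.stalk (geo i)).map (qitMap q (augD F K dK ε p))).hom (c i) (d i)
  v p q := colV (qit q (augL F K p))
  hh p q x := funext fun i =>
    stalk_comp_zero i _ _ (qitMap_comp_zero q _ _ (augD_augD hε hd p)) (x i)
  vv p q x := colV_colV _ x
  hv p q x := (colV_nat (qitMap q (augD F K dK ε p)) x).symm

/-- The spectral sequence of a resolution. -/
theorem exists_ss_resolution (hε : ε ≫ dK 0 = 0) (hd : ∀ p, dK p ≫ dK (p + 1) = 0)
    (hpt : PtExact (augL F K) (augD F K dK ε)) (E₁ : ℤ → ℤ → AddCommGrpCat.{u + 1})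
    (hE : ∀ p q : ℕ, Nonempty (AddCommGrpCat.of (EtCoh.H Y (K p) q) ≅ E₁ p q))
    (hz : ∀ p q : ℤ, p < 0 ∨ q < 0 → IsZero (E₁ p q)) :
    ∃ (E : CohomologicalSpectralSequence AddCommGrpCat.{u + 1} 1)
      (a : SpSeq.Abutment E (fun n : ℤ =>
        if 0 ≤ n then AddCommGrpCat.of (EtCoh.H Y F n.toNat) else AddCommGrpCat.of PUnit.{u + 2})),
      (∀ n, a.IsFinite n) ∧ SpSeq.IsBounded E ∧
      ∀ p q : ℤ, Nonempty ((E.page 1 le_rfl).X (p, q) ≅ E₁ p q) := by
  let M := dblRes hε hd
  have hq := ptExact_qit (augD_augD hε hd) hpt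
  have hM : ∀ n, TotExact M n := fun n => totExact_of_rows M
    (fun q x hx => funext fun i => (hq q).inj i (x i) (congrFun hx i))
    (fun p q x hx => by
      choose y hy using fun i => (hq q).exact p i (x i) (congrFun hx i)
      exact ⟨y, funext hy⟩) n
  refine exists_ss (shift M) _ (fun n => ?_) E₁ (fun p q => ?_) hz
  · by_cases hn : 0 ≤ n
    · obtain ⟨k, rfl⟩ := Int.eq_ofNat_of_zero_le hn
      rw [if_pos hn]
      exact ⟨(nonempty_homology_col_iso M hM k).some.symm ≪≫ (nonempty_colCx_homology F k).some⟩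
    · rw [if_neg hn]
      refine ⟨IsZero.iso (ShortComplex.isZero_homology_of_isZero_X₂ _ ?_)
        (AddCommGrpCat.isZero_of_subsingleton _)⟩
      haveI : IsEmpty (Idx n) := ⟨fun i => hn (by have := i.2; omega)⟩
      exact @AddCommGrpCat.isZero_of_subsingleton _ (inferInstanceAs (Subsingleton (T (shift M) n)))
  · exact ⟨(nonempty_colCx_homology (K p) q).some ≪≫ (hE p q).some⟩

end Seq

end Groth.Agent.DescInt13

end
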