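import Groth.Agent.Lib.DescInt13.PushPull
import Groth.Agent.Lib.DescInt13.ResSS
import Groth.Agent.Lib.EtDesc24.Descent

/-!
# The Čech resolution of a sheaf by an integral surjective morphism
-/

set_option autoImplicit false
set_option linter.style.haveILetI false
set_option backward.isDefEq.respectTransparency false
set_option backward.isDefEq.respectTransparency.types false

universe u

open CategoryTheory CategoryTheory.Limits AlgebraicGeometry Opposite AlgebraicTopology Simplicial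
open Groth.Agent.EtStalk Groth.Agent.Weight

noncomputable section

namespace Groth.Agent.DescInt13

variable {X S : Scheme.{u}} (f : X ⟶ S) (F : EtCoh.Ab S)

/-- The powers of `X` over `S`. -/
abbrev ob (n : SimplexCategory) : Over S := (EtDesc24.nerveOver f).obj (op n)

/-- The projections. -/
abbrev pr (n : SimplexCategory) (k : Fin (n.len + 1)) : (ob f n).left ⟶ X :=
  WidePullback.π (fun _ : Fin (n.len + 1) => f) k

lemma pr_comp (n : SimplexCategory) (k : Fin (n.len + 1)) : pr f n k ≫ f = (ob f n).hom :=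
  WidePullback.π_arrow _ k

lemma map_pr {m n : SimplexCategory} (g : m ⟶ n) (k : Fin (m.len + 1)) :
    ((EtDesc24.nerveOver f).map g.op).left ≫ pr f m k = pr f n (g.toOrderHom k) :=
  WidePullback.lift_π _ _ _ _ _

lemma ob_ext {T : Scheme.{u}} {n : SimplexCategory} (a b : T ⟶ (ob f n).left)
    (h : ∀ k, a ≫ pr f n k = b ≫ pr f n k) (h' : a ≫ (ob f n).hom = b ≫ (ob f n).hom) : a = b :=
  WidePullback.hom_ext _ _ _ h h'

variable [IsIntegralHom f]

theorem isIntegralHom_ob : ∀ n : ℕ, IsIntegralHom (ob f ⦋n⦌).hom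
  | 0 => by
    haveI : IsIso (pr f ⦋0⦌ 0) :=
      ⟨WidePullback.lift f (fun _ : Fin 1 => 𝟙 X) (fun _ => Category.id_comp f),
        ob_ext f _ _ (fun k => by
          obtain rfl : k = 0 := Subsingleton.elim (α := Fin 1) _ _
          rw [Category.assoc, Category.id_comp]
          erw [WidePullback.lift_π, Category.comp_id]) (by
          rw [Category.assoc, Category.id_comp]
          erw [WidePullback.lift_base]
          exact pr_comp f ⦋0⦌ 0),
        WidePullback.lift_π _ _ _ _ _⟩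
    rw [← pr_comp f ⦋0⦌ 0]
    infer_instance
  | n + 1 => by
    haveI := isIntegralHom_ob n
    let d : (ob f ⦋n + 1⦌).left ⟶ (ob f ⦋n⦌).left :=
      WidePullback.lift (ob f ⦋n + 1⦌).hom (fun k : Fin (n + 1) => pr f ⦋n + 1⦌ k.succ)
        (fun k => pr_comp f ⦋n + 1⦌ k.succ)
    let j : pullback (ob f ⦋n⦌).hom f ⟶ (ob f ⦋n + 1⦌).left :=
      WidePullback.lift (pullback.fst (ob f ⦋n⦌).hom f ≫ (ob f ⦋n⦌).hom)
        (Fin.cases (pullback.snd (ob f ⦋n⦌).hom f) fun k => pullback.fst (ob f ⦋n⦌).hom f ≫ pr f ⦋n⦌ k)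
        (fun k => by
          refine Fin.cases ?_ (fun k => ?_) k
          · exact pullback.condition.symm
          · exact (Category.assoc _ _ _).trans (congrArg (_ ≫ ·) (pr_comp f ⦋n⦌ k)))
    have hd : d ≫ (ob f ⦋n⦌).hom = (ob f ⦋n + 1⦌).hom := WidePullback.lift_base _ _ _ _
    let i : (ob f ⦋n + 1⦌).left ⟶ pullback (ob f ⦋n⦌).hom f :=
      pullback.lift d (pr f ⦋n + 1⦌ 0) (hd.trans (pr_comp f ⦋n + 1⦌ 0).symm)
    haveI : IsIso i := by
      refine ⟨j, ob_ext f _ _ (fun k => ?_) ?_, pullback.hom_ext ?_ ?_⟩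
      · rw [Category.assoc, Category.id_comp]
        erw [WidePullback.lift_π]
        refine Fin.cases ?_ (fun k => ?_) k
        · exact pullback.lift_snd _ _ _
        · exact (Category.assoc _ _ _).symm.trans
            ((congrArg (· ≫ pr f ⦋n⦌ k) (pullback.lift_fst _ _ _)).trans (WidePullback.lift_π _ _ _ _ _))
      · rw [Category.assoc, Category.id_comp]
        erw [WidePullback.lift_base]
        exact (Category.assoc _ _ _).symm.trans ((congrArg (· ≫ (ob f ⦋n⦌).hom) (pullback.lift_fst _ _ _)).trans hd)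
      · rw [Category.assoc, pullback.lift_fst, Category.id_comp]
        refine ob_ext f _ _ (fun k => ?_) ?_
        · rw [Category.assoc]
          erw [WidePullback.lift_π, WidePullback.lift_π]
          rfl
        · rw [Category.assoc, hd]
          exact WidePullback.lift_base _ _ _ _
      · rw [Category.assoc, pullback.lift_snd, Category.id_comp]
        exact WidePullback.lift_π _ _ _ _ _
    have hi : i ≫ pullback.fst (ob f ⦋n⦌).hom f = d := pullback.lift_fst _ _ _
    rw [← hd, ← hi]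
    infer_instance

instance (n : SimplexCategory) : IsIntegralHom (ob f n).hom := isIntegralHom_ob f n.len

lemma hom_ext_geo {G H : EtCoh.Ab S} (a b : G ⟶ H)
    (h : ∀ (i : S) (x : stG G i), (EtCoh.stalk (geo i)).map a x = (EtCoh.stalk (geo i)).map b x) : a = b := by
  ext V s
  obtain ⟨V⟩ := V
  exact ext_geo _ _ fun i z => by rw [← germ_nat, ← germ_nat, h]

lemma stalk_map_comp {G H K : EtCoh.Ab S} (i : S) (a : G ⟶ H) (b : H ⟶ K) (x : stG G i) :
    (EtCoh.stalk (geo i)).map (a ≫ b) x = (EtCoh.stalk (geo i)).map b ((EtCoh.stalk (geo i)).map a x) :=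
  ConcreteCategory.congr_hom ((EtCoh.stalk (geo i)).map_comp a b) x

/-- The cosimplicial sheaf. -/
def cosPP : CosimplicialObject (EtCoh.Ab S) where
  obj n := pp F (ob f n)
  map g := ppMap F ((EtDesc24.nerveOver f).map g.op)
  map_id n := hom_ext_geo _ _ fun i x => val_ext F (geo i) (ob f n) fun l => by
    refine (val_map F (geo i) _ l x).trans (Eq.trans
      (congrArg (fun m => val F (geo i) (ob f n) m x) (Subtype.ext ?_))
      (congrArg (val F (geo i) (ob f n) l)
        (ConcreteCategory.congr_hom ((EtCoh.stalk (geo i)).map_id (pp F (ob f n))) x)).symm)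
    show l.1 ≫ ((EtDesc24.nerveOver f).map (𝟙 n).op).left = l.1
    rw [op_id, (EtDesc24.nerveOver f).map_id]
    exact Category.comp_id _
  map_comp {k m n} g g' := hom_ext_geo _ _ fun i x => val_ext F (geo i) (ob f n) fun l => by
    refine (val_map F (geo i) _ l x).trans (Eq.trans
      (congrArg (fun t => val F (geo i) (ob f k) t x) (Subtype.ext ?_))
      ((congrArg (val F (geo i) (ob f n) l) (stalk_map_comp i _ _ x)).trans
        ((val_map F (geo i) _ l _).trans (val_map F (geo i) _ _ x))).symm)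
    show l.1 ≫ ((EtDesc24.nerveOver f).map (g ≫ g').op).left = (l.1 ≫ _) ≫ _
    rw [op_comp, (EtDesc24.nerveOver f).map_comp]
    exact (Category.assoc _ _ _).symm

/-- The complex. -/
def cechCx : CochainComplex (EtCoh.Ab S) ℕ :=
  (alternatingCofaceMapComplex (EtCoh.Ab S)).obj (cosPP f F)

/-- The augmentation. -/
def cechAug : F ⟶ (cechCx f F).X 0 := ppUnit F (ob f ⦋0⦌)

lemma cechCx_d (n : ℕ) :
    (cechCx f F).d n (n + 1) = ∑ i : Fin (n + 2), (-1 : ℤ) ^ (i : ℕ) • (cosPP f F).δ i :=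
  CochainComplex.of_d (fun n => (cosPP f F).obj ⦋n⦌) (AlternatingCofaceMapComplex.objD (cosPP f F)) n

lemma cechAug_d : cechAug f F ≫ (cechCx f F).d 0 1 = 0 := by
  rw [cechCx_d]
  have h : ∀ i : Fin 2, cechAug f F ≫ (cosPP f F).δ i = ppUnit F (ob f ⦋1⦌) := fun i => unit_ppMap F _
  simp [Fin.sum_univ_two, Preadditive.comp_add, h]

variable {Ω : Type u} [Field Ω] [IsAlgClosed Ω] (η : Spec (CommRingCat.of Ω) ⟶ S) (s₀ : fLifts f η)

/-- Adjoining the chosen point. -/
def extE (n : ℕ) : pullback (ob f ⦋n⦌).hom η ⟶ pullback (ob f ⦋n + 1⦌).hom η :=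
  pullback.lift
    (WidePullback.lift (pullback.snd (ob f ⦋n⦌).hom η ≫ η)
      (Fin.cases (pullback.snd (ob f ⦋n⦌).hom η ≫ s₀.1) fun k => pullback.fst (ob f ⦋n⦌).hom η ≫ pr f ⦋n⦌ k)
      (fun k => by
        refine Fin.cases ?_ (fun k => ?_) k
        · exact (Category.assoc _ _ _).trans (congrArg (_ ≫ ·) s₀.2)
        · exact (Category.assoc _ _ _).trans ((congrArg (_ ≫ ·) (pr_comp f ⦋n⦌ k)).trans pullback.condition)))
    (pullback.snd (ob f ⦋n⦌).hom η) (WidePullback.lift_base _ _ _ _)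

lemma extE_snd (n : ℕ) : extE f η s₀ n ≫ pullback.snd _ η = pullback.snd _ η := pullback.lift_snd _ _ _

/-- The point with the chosen point adjoined. -/
abbrev sig (n : ℕ) (l : fLifts (ob f ⦋n⦌).hom η) : fLifts (ob f ⦋n + 1⦌).hom η :=
  liftVia η _ _ (extE f η s₀ n) (extE_snd f η s₀ n) l

lemma sig_zero (n : ℕ) (l : fLifts (ob f ⦋n⦌).hom η) : (sig f η s₀ n l).1 ≫ pr f ⦋n + 1⦌ 0 = s₀.1 := by
  simp only [sig, liftVia, extE, Category.assoc, pullback.lift_fst_assoc]
  erw [WidePullback.lift_π]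
  exact (Category.assoc _ _ _).symm.trans ((congrArg (· ≫ s₀.1) (pullback.lift_snd _ _ _)).trans (Category.id_comp _))

lemma sig_succ (n : ℕ) (l : fLifts (ob f ⦋n⦌).hom η) (k : Fin (n + 1)) :
    (sig f η s₀ n l).1 ≫ pr f ⦋n + 1⦌ k.succ = l.1 ≫ pr f ⦋n⦌ k := by
  simp only [sig, liftVia, extE, Category.assoc, pullback.lift_fst_assoc]
  erw [WidePullback.lift_π]
  exact (Category.assoc _ _ _).symm.trans (congrArg (· ≫ pr f ⦋n⦌ k) (pullback.lift_fst _ _ _))

omit [IsIntegralHom f] s₀ in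
lemma additive_stalk : (EtCoh.stalk η).Additive :=
  haveI : PreservesBinaryBiproducts (EtCoh.stalk η) := preservesBinaryBiproducts_of_preservesBinaryProducts _
  Functor.additive_of_preservesBinaryBiproducts _

/-- Two points above are equal if their projections agree. -/
lemma lift_ext {n : SimplexCategory} (a b : fLifts (ob f n).hom η) (h : ∀ k, a.1 ≫ pr f n k = b.1 ≫ pr f n k) :
    a = b := Subtype.ext (ob_ext f _ _ h (a.2.trans b.2.symm))

lemma liftMap_δ (n : ℕ) (i : Fin (n + 2)) (l : fLifts (ob f ⦋n + 1⦌).hom η) (k : Fin (n + 1)) :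
    (liftMap η ((EtDesc24.nerveOver f).map (SimplexCategory.δ i).op) l).1 ≫ pr f ⦋n⦌ k =
      l.1 ≫ pr f ⦋n + 1⦌ (i.succAbove k) := by
  rw [Category.assoc]
  exact congrArg (l.1 ≫ ·) (map_pr f (SimplexCategory.δ i) k)

lemma val_δ (n : ℕ) (i : Fin (n + 2)) (l : fLifts (ob f ⦋n + 1⦌).hom η)
    (x : (EtCoh.stalk η).obj (pp F (ob f ⦋n⦌))) :
    val F η (ob f ⦋n + 1⦌) l ((EtCoh.stalk η).map ((cosPP f F).δ i) x) =
      val F η (ob f ⦋n⦌) (liftMap η ((EtDesc24.nerveOver f).map (SimplexCategory.δ i).op) l) x :=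
  val_map F η _ l x

include s₀ in
lemma exists_pre (n : ℕ) (x : (EtCoh.stalk η).obj (pp F (ob f ⦋n + 1⦌)))
    (hx : (EtCoh.stalk η).map ((cechCx f F).d (n + 1) (n + 2)) x = 0) :
    ∃ y, (EtCoh.stalk η).map ((cechCx f F).d n (n + 1)) y = x := by
  haveI := additive_stalk η
  have hd : ∀ (m : ℕ) (y : (EtCoh.stalk η).obj (pp F (ob f ⦋m⦌))) (l : fLifts (ob f ⦋m + 1⦌).hom η),
      val F η (ob f ⦋m + 1⦌) l ((EtCoh.stalk η).map ((cechCx f F).d m (m + 1)) y) =
        ∑ i : Fin (m + 2), (-1 : ℤ) ^ (i : ℕ) •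
          val F η (ob f ⦋m⦌) (liftMap η ((EtDesc24.nerveOver f).map (SimplexCategory.δ i).op) l) y := fun m y l => by
    rw [cechCx_d, Functor.map_sum]
    erw [AdeqA.sum_apply]
    rw [map_sum]
    refine Finset.sum_congr rfl fun i _ => ?_
    rw [Functor.map_zsmul]
    show val F η _ l ((-1 : ℤ) ^ (i : ℕ) • (EtCoh.stalk η).map ((cosPP f F).δ i) y) = _
    rw [map_zsmul, val_δ]
  obtain ⟨y, hy⟩ := exists_val_via F η (ob f ⦋n⦌) (ob f ⦋n + 1⦌) (extE f η s₀ n) (extE_snd f η s₀ n) x
  refine ⟨y, val_ext F η _ fun l => ?_⟩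
  have e := hd (n + 1) x (sig f η s₀ (n + 1) l)
  have e' : val F η (ob f ⦋n + 2⦌) (sig f η s₀ (n + 1) l)
      ((EtCoh.stalk η).map ((cechCx f F).d (n + 1) (n + 2)) x) = 0 :=
    (congrArg _ hx).trans (map_zero _)
  have h0 : liftMap η ((EtDesc24.nerveOver f).map (SimplexCategory.δ (0 : Fin (n + 3))).op)
      (sig f η s₀ (n + 1) l) = l := lift_ext f η _ _ fun k => by
    rw [liftMap_δ, Fin.succAbove_zero]
    exact sig_succ f η s₀ (n + 1) l k
  have h1 : ∀ i : Fin (n + 2), liftMap η ((EtDesc24.nerveOver f).map (SimplexCategory.δ i.succ).op)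
      (sig f η s₀ (n + 1) l) =
      sig f η s₀ n (liftMap η ((EtDesc24.nerveOver f).map (SimplexCategory.δ i).op) l) := fun i =>
    lift_ext f η _ _ fun k => by
      rw [liftMap_δ]
      refine Fin.cases ?_ (fun k => ?_) k
      · rw [Fin.succ_succAbove_zero]
        exact (sig_zero f η s₀ (n + 1) l).trans (sig_zero f η s₀ n _).symm
      · rw [Fin.succ_succAbove_succ]
        exact ((sig_succ f η s₀ (n + 1) l _).trans (liftMap_δ f η n i l k).symm).trans (sig_succ f η s₀ n _ k).symm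
  rw [Fin.sum_univ_succ] at e
  simp only [Fin.val_zero, pow_zero, one_smul, h0, h1, Fin.val_succ, pow_succ, mul_neg, mul_one, neg_smul,
    Finset.sum_neg_distrib] at e
  rw [hd n y l]
  simp only [hy]
  exact (neg_add_eq_zero.1 ((add_comm _ _).trans (e.symm.trans e')))

include s₀ in
lemma exists_pre_zero (x : (EtCoh.stalk η).obj (pp F (ob f ⦋0⦌)))
    (hx : (EtCoh.stalk η).map ((cechCx f F).d 0 1) x = 0) :
    ∃ c, (EtCoh.stalk η).map (cechAug f F) c = x := by
  let l₀ : fLifts (ob f ⦋0⦌).hom η :=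
    ⟨WidePullback.lift η (fun _ => s₀.1) (fun _ => s₀.2), WidePullback.lift_base _ _ _ _⟩
  refine ⟨val F η (ob f ⦋0⦌) l₀ x, val_ext F η _ fun l => (val_unit F η _ l _).trans ?_⟩
  have e : val F η (ob f ⦋1⦌) (sig f η s₀ 0 l) ((EtCoh.stalk η).map ((cosPP f F).δ (0 : Fin 2)) x) =
      val F η (ob f ⦋1⦌) (sig f η s₀ 0 l) ((EtCoh.stalk η).map ((cosPP f F).δ (1 : Fin 2)) x) := by
    have h : (cechCx f F).d 0 1 = (cosPP f F).δ (0 : Fin 2) - (cosPP f F).δ (1 : Fin 2) := by
      rw [cechCx_d]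
      simp [Fin.sum_univ_two]
      abel
    haveI := additive_stalk η
    rw [h, Functor.map_sub] at hx
    exact congrArg _ (sub_eq_zero.1 hx)
  rw [val_δ, val_δ] at e
  refine Eq.trans ?_ (e.symm.trans ?_)
  · refine congrArg (fun m => val F η (ob f ⦋0⦌) m x) (lift_ext f η _ _ fun k => ?_)
    obtain rfl : k = 0 := Subsingleton.elim (α := Fin 1) _ _
    rw [liftMap_δ]
    exact (WidePullback.lift_π _ _ _ _ _).trans (sig_zero f η s₀ 0 l).symm
  · refine congrArg (fun m => val F η (ob f ⦋0⦌) m x) (lift_ext f η _ _ fun k => ?_)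
    obtain rfl : k = 0 := Subsingleton.elim (α := Fin 1) _ _
    rw [liftMap_δ]
    exact sig_succ f η s₀ 0 l 0

variable [Surjective f]

/-- Exactness of the Čech resolution at the geometric points. -/
theorem ptExact_cech :
    PtExact (augL F (cechCx f F).X) (augD F (cechCx f F).X (fun p => (cechCx f F).d p (p + 1)) (cechAug f F)) := by
  have hl : ∀ i : S, Nonempty (fLifts f (geo i)) := fun i => by
    obtain ⟨z, -⟩ := (pullback.snd f (geo i)).surjective default
    exact ⟨(fpt_surjective f (geo i) z).choose⟩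
  refine ⟨fun i x hx => ?_, fun p i x hx => ?_⟩
  · obtain ⟨s₀⟩ := hl i
    let l₀ : fLifts (ob f ⦋0⦌).hom (geo i) :=
      ⟨WidePullback.lift (geo i) (fun _ => s₀.1) (fun _ => s₀.2), WidePullback.lift_base _ _ _ _⟩
    exact (val_unit F (geo i) (ob f ⦋0⦌) l₀ x).symm.trans
      ((congrArg (val F (geo i) (ob f ⦋0⦌) l₀) hx).trans (map_zero _))
  · obtain ⟨s₀⟩ := hl i
    cases p with
    | zero => exact exists_pre_zero f F (geo i) s₀ x hx
    | succ p => exact exists_pre f F (geo i) s₀ p x hx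

end Groth.Agent.DescInt13

end
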