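import Groth.Agent.Lib.EtStalk.Integral
import Groth.Agent.Lib.EtStalk.HpullComp

/-!
# The Godement sheaf of abelian groups of the geometric points of a scheme
-/

set_option autoImplicit false
set_option linter.style.haveILetI false

universe u

open CategoryTheory CategoryTheory.Limits AlgebraicGeometry Opposite
open Groth.Agent.EtStalk

noncomputable section

namespace Groth.Agent.DescInt13

variable {Y : Scheme.{u}}

/-- The algebraically closed field of a point. -/
abbrev Om (i : Y) : Type u := AlgebraicClosure (Y.residueField i)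

/-- The geometric point at a point. -/
def geo (i : Y) : Spec (CommRingCat.of (Om i)) ⟶ Y :=
  Spec.map (CommRingCat.ofHom (algebraMap (Y.residueField i) (Om i))) ≫ Y.fromSpecResidueField i

lemma geo_default (i : Y) : geo i default = i := by
  rw [geo, Scheme.Hom.comp_apply]
  exact Scheme.fromSpecResidueField_apply _ _

lemma exists_fib_geo (U : Y.Etale) (x : U.left) : ∃ φ : fib (geo (U.hom x)) U, fibPt φ = x := by
  obtain ⟨φ, hφ⟩ := Scheme.pointSmallEtaleFiberObjToPreimage_surjective (geo (U.hom x))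
    (geo_default (U.hom x)) U ⟨x, rfl⟩
  exact ⟨φ, congrArg Subtype.val hφ⟩

/-- The presheaf of families of functions on the fibres. -/
def godPre (A : Y → AddCommGrpCat.{u + 1}) : Y.Etaleᵒᵖ ⥤ AddCommGrpCat.{u + 1} where
  obj V := AddCommGrpCat.of (∀ i : Y, fib (geo i) V.unop → A i)
  map g := AddCommGrpCat.ofHom
    (AddMonoidHom.mk' (fun s i z => s i ((Scheme.pointSmallEtale (geo i)).fiber.map g.unop z)) fun _ _ => rfl)
  map_id V := by
    ext s i z
    exact congrArg (s i) (by simp)
  map_comp g h := by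
    ext s i z
    exact congrArg (s i) (by simp)

lemma godPre_map (A : Y → AddCommGrpCat.{u + 1}) {V W : Y.Etale} (g : W ⟶ V)
    (s : (godPre A).obj (op V)) (i : Y) (z : fib (geo i) W) :
    (godPre A).map g.op s i z = s i ((Scheme.pointSmallEtale (geo i)).fiber.map g z) := rfl

theorem isSheaf_godPre (A : Y → AddCommGrpCat.{u + 1}) :
    Presheaf.IsSheaf Y.smallEtaleTopology (godPre A) := by
  rw [Presheaf.isSheaf_iff_isSheaf_forget (s := forget _), isSheaf_iff_isSheaf_of_type]
  intro V S hS fam hfam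
  rw [Presieve.compatible_iff_sieveCompatible] at hfam
  let φ : ∀ ⦃W : Y.Etale⦄ (g : W ⟶ V), S g → ∀ i : Y, fib (geo i) W → A i := fam
  have hφ : ∀ ⦃W W' : Y.Etale⦄ (g : W ⟶ V) (a : W' ⟶ W) (h : S g) (i : Y) (z : fib (geo i) W'),
      φ (a ≫ g) (S.downward_closed h a) i z = φ g h i ((Scheme.pointSmallEtale (geo i)).fiber.map a z) :=
    fun W W' g a h i z => congrFun (congrFun (hfam g a h) i) z
  have hkey : ∀ (i : Y) {W₁ W₂ : Y.Etale} (g₁ : W₁ ⟶ V) (g₂ : W₂ ⟶ V) (h₁ : S g₁) (h₂ : S g₂)
      (z₁ : fib (geo i) W₁) (z₂ : fib (geo i) W₂),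
      (Scheme.pointSmallEtale (geo i)).fiber.map g₁ z₁ = (Scheme.pointSmallEtale (geo i)).fiber.map g₂ z₂ →
      φ g₁ h₁ i z₁ = φ g₂ h₂ i z₂ := by
    intro i W₁ W₂ g₁ g₂ h₁ h₂ z₁ z₂ he
    obtain ⟨U, a₁, a₂, u, ha, rfl, rfl⟩ := EtStalk.exists_common (geo i) g₁ g₂ z₁ z₂ rfl he.symm
    rw [← hφ g₁ a₁ h₁, ← hφ g₂ a₂ h₂]
    exact congrFun (congrFun (by congr 1) i) u
  choose W g hg z hz using fun (i : Y) (x : fib (geo i) V) =>
    (Scheme.pointSmallEtale (geo i)).jointly_surjective S hS x
  refine ⟨fun i x => φ (g i x) (hg i x) i (z i x), fun W' a ha => ?_, fun s hs => ?_⟩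
  · funext i w
    exact hkey i _ a _ ha _ w (hz i _)
  · funext i x
    refine Eq.trans ?_ (congrFun (congrFun (hs (g i x) (hg i x)) i) (z i x))
    exact congrArg ((show ∀ i, fib (geo i) V → A i from s) i) (hz i x).symm

/-- The Godement sheaf. -/
def godSh (A : Y → AddCommGrpCat.{u + 1}) : EtCoh.Ab Y := ⟨godPre A, isSheaf_godPre A⟩

/-- Functoriality in the values. -/
def godMap {A B : Y → AddCommGrpCat.{u + 1}} (a : ∀ i, A i ⟶ B i) : godSh A ⟶ godSh B :=
  ⟨{ app := fun V => AddCommGrpCat.ofHom
      (AddMonoidHom.mk' (fun (s : ∀ i : Y, fib (geo i) V.unop → A i) i z => a i (s i z)) fun s t => by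
        funext i z
        exact map_add (a i).hom (s i z) (t i z))
     naturality := fun V W g => by
       ext s
       rfl }⟩

lemma godMap_app {A B : Y → AddCommGrpCat.{u + 1}} (a : ∀ i, A i ⟶ B i) {V : Y.Etale}
    (s : (godSh A).obj.obj (op V)) (i : Y) (z : fib (geo i) V) :
    (godMap a).hom.app (op V) s i z = a i (s i z) := rfl

/-- The stalks at the geometric points. -/
abbrev stG (G : EtCoh.Ab Y) (i : Y) : AddCommGrpCat.{u + 1} := (EtCoh.stalk (geo i)).obj G

/-- Germs at all geometric points. -/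
def unit (G : EtCoh.Ab Y) : G ⟶ godSh (stG G) :=
  ⟨{ app := fun V => AddCommGrpCat.ofHom
      (AddMonoidHom.mk' (fun (s : G.obj.obj V) (i : Y) (z : fib (geo i) V.unop) => germ (geo i) G z s) fun s t => by
        funext i z
        exact map_add (germ (geo i) G z).hom s t)
     naturality := fun V W g => by
       ext s
       funext i z
       exact germ_map (geo i) G g.unop z s }⟩

lemma unit_app (G : EtCoh.Ab Y) {V : Y.Etale} (s : G.obj.obj (op V)) (i : Y) (z : fib (geo i) V) :
    (unit G).hom.app (op V) s i z = germ (geo i) G z s := rfl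

lemma unit_nat {G H : EtCoh.Ab Y} (a : G ⟶ H) :
    a ≫ unit H = unit G ≫ godMap (fun i => (EtCoh.stalk (geo i)).map a) := by
  ext V s
  funext i z
  exact (germ_nat (geo i) a z s).symm

/-- Germs at the geometric points separate sections. -/
lemma ext_geo {G : EtCoh.Ab Y} {V : Y.Etale} (s t : G.obj.obj (op V))
    (h : ∀ i (z : fib (geo i) V), germ (geo i) G z s = germ (geo i) G z t) : s = t := by
  refine eq_of_agree G fun x => ?_
  obtain ⟨φ, hφ⟩ := exists_fib_geo V x
  rw [← hφ, mem_agree_iff_germ]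
  exact h _ φ

instance mono_unit (G : EtCoh.Ab Y) : Mono (unit G) := by
  rw [mono_iff_app_injective]
  intro V s t h
  obtain ⟨V⟩ := V
  exact ext_geo s t fun i z => congrFun (congrFun h i) z

/-- A Godement sheaf with injective values is injective. -/
theorem injective_godSh (A : Y → AddCommGrpCat.{u + 1}) [∀ i, Injective (A i)] : Injective (godSh A) where
  factors {G H} φ m _ := by
    let c : ∀ i, stG G i ⟶ A i := fun i =>
      (Scheme.pointSmallEtale (geo i)).presheafFiberDesc (P := G.obj)
        (fun V z => AddCommGrpCat.ofHom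
          (AddMonoidHom.mk' (fun s => (φ.hom.app (op V) s : ∀ i, fib (geo i) V → A i) i z) fun s t => by
            rw [map_add]
            rfl))
        (fun V W g z => ConcreteCategory.hom_ext _ _ fun s =>
          congrFun (congrFun (ConcreteCategory.congr_hom (φ.hom.naturality g.op) s) i) z)
    have hc : ∀ i {V : Y.Etale} (z : fib (geo i) V) (s : G.obj.obj (op V)),
        c i (germ (geo i) G z s) = (φ.hom.app (op V) s : ∀ i, fib (geo i) V → A i) i z := fun i V z s =>
      ConcreteCategory.congr_hom (GrothendieckTopology.Point.toPresheafFiber_presheafFiberDesc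
        (Scheme.pointSmallEtale (geo i)) (P := G.obj) (fun V z => AddCommGrpCat.ofHom
          (AddMonoidHom.mk' (fun s => (φ.hom.app (op V) s : ∀ i, fib (geo i) V → A i) i z) fun s t => by
            rw [map_add]
            rfl)) _ V z) s
    refine ⟨unit H ≫ godMap (fun i => Injective.factorThru (c i) ((EtCoh.stalk (geo i)).map m)), ?_⟩
    ext V s
    obtain ⟨V⟩ := V
    funext i z
    refine Eq.trans ?_ (hc i z s)
    refine (congrArg (Injective.factorThru (c i) ((EtCoh.stalk (geo i)).map m)) (germ_nat (geo i) m z s).symm).trans ?_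
    exact ConcreteCategory.congr_hom (Injective.comp_factorThru (c i) ((EtCoh.stalk (geo i)).map m)) _

end Groth.Agent.DescInt13

end
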