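import Groth.Agent.Lib.DescInt13.Exact
import Groth.Agent.Lib.EtStalk.HofPush
import Groth.Agent.Lib.EtStalk.Push

/-!
# The descent spectral sequence of an integral surjective morphism
-/

set_option autoImplicit false
set_option linter.style.haveILetI false
set_option backward.isDefEq.respectTransparency false
set_option backward.isDefEq.respectTransparency.types false

universe u

open CategoryTheory CategoryTheory.Limits AlgebraicGeometry Opposite Simplicial
open Groth.Agent.EtStalk

noncomputable section

namespace Groth.Agent.DescInt13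

/-- Cohomology of the direct image along an integral morphism. -/
theorem nonempty_H_push {W S : Scheme.{u}} (b : W ⟶ S) [IsIntegralHom b] (G : EtCoh.Ab W) (n : ℕ) :
    Nonempty (AddCommGrpCat.of (EtCoh.H S ((EtCoh.push b).obj G) n) ≅ AddCommGrpCat.of (EtCoh.H W G n)) := by
  have := preservesFiniteColimits_push_integral b
  refine ⟨AddEquiv.toAddCommGrpIso (X := AddCommGrpCat.of _) (Y := AddCommGrpCat.of _)
    (AddEquiv.ofBijective (EtLim.HofPush b G n) (bijective_HofPush b n G fun q hq => ?_))⟩
  let I : InjectiveResolution G := injectiveResolution G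
  refine IsZero.of_iso ?_ (I.isoRightDerivedObj (EtCoh.push b) q)
  change IsZero (HomologicalComplex.homology _ q)
  rw [← HomologicalComplex.exactAt_iff_isZero_homology, HomologicalComplex.exactAt_iff]
  obtain ⟨m, rfl⟩ := Nat.exists_eq_add_one.2 hq
  exact ((I.cocomplex.exactAt_iff (m + 1)).1 (I.cocomplex_exactAt_succ m)).map (EtCoh.push b)

theorem exists_descent_ss {X Y : Scheme.{u}} (f : X ⟶ Y) [IsIntegralHom f] [Surjective f] (F : EtCoh.Ab Y) :
    ∃ (E : CohomologicalSpectralSequence AddCommGrpCat.{u + 1} 1)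
      (a : SpSeq.Abutment E (fun n : ℤ =>
        if 0 ≤ n then AddCommGrpCat.of (EtCoh.H Y F n.toNat) else AddCommGrpCat.of PUnit.{u + 2})),
      (∀ n, a.IsFinite n) ∧ SpSeq.IsBounded E ∧
      ∀ p q : ℤ, Nonempty ((E.page 1 le_rfl).X (p, q) ≅
        (if 0 ≤ p ∧ 0 ≤ q then
          AddCommGrpCat.of (EtCoh.H (widePullback Y (fun _ : Fin (p.toNat + 1) => X) (fun _ => f))
            ((EtCoh.pull (WidePullback.base (fun _ : Fin (p.toNat + 1) => f) :
              widePullback Y (fun _ : Fin (p.toNat + 1) => X) (fun _ => f) ⟶ Y)).obj F) q.toNat)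
         else AddCommGrpCat.of PUnit.{u + 2})) := by
  refine exists_ss_resolution (K := (cechCx f F).X) (dK := fun p => (cechCx f F).d p (p + 1))
    (ε := cechAug f F) (cechAug_d f F) (fun p => (cechCx f F).d_comp_d _ _ _) (ptExact_cech f F) _ ?_ ?_
  · intro p q
    rw [if_pos ⟨Int.natCast_nonneg p, Int.natCast_nonneg q⟩]
    exact nonempty_H_push (ob f ⦋p⦌).hom ((EtCoh.pull (ob f ⦋p⦌).hom).obj F) q
  · intro p q h
    rw [if_neg (by omega)]
    exact AddCommGrpCat.isZero_of_subsingleton _

end Groth.Agent.DescInt13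

end
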