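import Groth.Agent.Lib.EtStalk.Integral
import Groth.Agent.Lib.EtStalk.FiniteBC
import Groth.Agent.Lib.EtStalk.Push

/-!
# The sheaves `b_* b⁻¹ F` for schemes over a base, at geometric points
-/

set_option autoImplicit false
set_option linter.style.haveILetI false
set_option backward.isDefEq.respectTransparency false
set_option backward.isDefEq.respectTransparency.types false

universe u

open CategoryTheory CategoryTheory.Limits AlgebraicGeometry Opposite
open Groth.Agent.EtStalk Groth.Agent.Weight

noncomputable section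

namespace Groth.Agent.DescInt13

variable {S : Scheme.{u}} (F : EtCoh.Ab S)

/-- The sheaf `b_* b⁻¹ F`. -/
abbrev pp (b : Over S) : EtCoh.Ab S := (EtCoh.push b.hom).obj ((EtCoh.pull b.hom).obj F)

/-- The unit. -/
abbrev ppUnit (b : Over S) : F ⟶ pp F b := (EtCoh.pullPushAdj b.hom).unit.app F

/-- Composition of direct images over the base. -/
def cIso {a b : Over S} (g : a ⟶ b) : EtCoh.push g.left ⋙ EtCoh.push b.hom ≅ EtCoh.push a.hom :=
  EtCoh.pushComp b.hom g.left ≪≫ EtCoh.pushCongr (Over.w g)

/-- The transition morphism on the upper schemes. -/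
def ppU {a b : Over S} (g : a ⟶ b) :
    (EtCoh.pull b.hom).obj F ⟶ (EtCoh.push g.left).obj ((EtCoh.pull a.hom).obj F) :=
  ((EtCoh.pullPushAdj b.hom).homEquiv _ _).symm (ppUnit F a ≫ (cIso g).inv.app _)

/-- Functoriality. -/
def ppMap {a b : Over S} (g : a ⟶ b) : pp F b ⟶ pp F a :=
  (EtCoh.push b.hom).map (ppU F g) ≫ (cIso g).hom.app _

lemma unit_ppMap {a b : Over S} (g : a ⟶ b) : ppUnit F b ≫ ppMap F g = ppUnit F a := by
  have h := Equiv.apply_symm_apply ((EtCoh.pullPushAdj b.hom).homEquiv _ _)
    (ppUnit F a ≫ (cIso g).inv.app _)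
  rw [Adjunction.homEquiv_unit] at h
  refine (Category.assoc _ _ _).symm.trans ((congrArg (· ≫ (cIso g).hom.app _) h).trans ?_)
  exact (Category.assoc _ _ _).trans ((congrArg (ppUnit F a ≫ ·) (Iso.inv_hom_id_app _ _)).trans
    (Category.comp_id _))

variable {Ω : Type u} [Field Ω] [IsAlgClosed Ω] (η : Spec (CommRingCat.of Ω) ⟶ S)

/-- The image of a point above. -/
abbrev liftMap {a b : Over S} (g : a ⟶ b) (l : fLifts a.hom η) : fLifts b.hom η :=
  ⟨l.1 ≫ g.left, (Category.assoc _ _ _).trans ((congrArg (l.1 ≫ ·) (Over.w g)).trans l.2)⟩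

/-- A point above, over its image. -/
abbrev liftOver {a b : Over S} (g : a ⟶ b) (l : fLifts a.hom η) : fLifts g.left (liftMap η g l).1 := ⟨l.1, rfl⟩

lemma liftStalk_cIso {a b : Over S} (g : a ⟶ b) (l : fLifts a.hom η) (G : EtCoh.Ab a.left)
    (p : (EtCoh.stalk η).obj ((EtCoh.push b.hom).obj ((EtCoh.push g.left).obj G))) :
    liftStalk a.hom η l G ((EtCoh.stalk η).map ((cIso g).hom.app G) p) =
      liftStalk g.left (liftMap η g l).1 (liftOver η g l) G
        (liftStalk b.hom η (liftMap η g l) ((EtCoh.push g.left).obj G) p) := by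
  obtain ⟨W, w, s, rfl⟩ := germ_surjective _ _ p
  refine (congrArg (liftStalk a.hom η l G) (germ_nat η ((cIso g).hom.app G) w s)).trans ?_
  refine (liftStalk_germ a.hom η l G w _).trans (Eq.symm ?_)
  refine (congrArg (liftStalk g.left _ (liftOver η g l) G)
    (liftStalk_germ b.hom η (liftMap η g l) ((EtCoh.push g.left).obj G) w s)).trans ?_
  refine (liftStalk_germ g.left _ (liftOver η g l) G _ s).trans (Eq.symm ?_)
  let C := (MorphismProperty.Over.pullbackComp (P := EtCoh.etaleMP) (Q := ⊤) g.left b.hom).app W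
  let B := (MorphismProperty.Over.pullbackCongr (P := EtCoh.etaleMP) (Q := ⊤) (Over.w g)).app W
  have hs : ((cIso g).hom.app G).hom.app (op W) s = G.obj.map (B.inv ≫ C.hom).op s := by
    rw [op_comp, Functor.map_comp_apply]
    rfl
  refine (congrArg (germ l.1 G (liftAt a.hom η w l)) hs).trans ((germ_map _ _ _ _ _).trans ?_)
  refine congrArg (fun t => germ l.1 G t s) ?_
  have hC : C.hom.left ≫ bcFst g.left ((EtCoh.bc b.hom).obj W) ≫ bcFst b.hom W =
      pullback.fst W.hom (g.left ≫ b.hom) :=
    MorphismProperty.Over.pullbackComp_left_fst_fst g.left b.hom W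
  have hB : B.hom.left ≫ pullback.fst W.hom a.hom = pullback.fst W.hom (g.left ≫ b.hom) :=
    MorphismProperty.Over.pullbackCongr_hom_app_left_fst (Over.w g) W
  have hBi : B.inv.left ≫ B.hom.left = 𝟙 _ := congrArg (fun t => t.left) B.inv_hom_id
  have hBinv : B.inv.left ≫ pullback.fst W.hom (g.left ≫ b.hom) = pullback.fst W.hom a.hom := by
    rw [← hB]
    exact (Category.assoc _ _ _).symm.trans ((congrArg (· ≫ _) hBi).trans (Category.id_comp _))
  have hT : (B.inv ≫ C.hom).left ≫ bcFst g.left ((EtCoh.bc b.hom).obj W) ≫ bcFst b.hom W = bcFst a.hom W :=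
    (Category.assoc _ _ _).trans ((congrArg (B.inv.left ≫ ·) hC).trans hBinv)
  refine Over.OverMorphism.ext (pullback.hom_ext (pullback.hom_ext ?_ ?_) ?_)
  · refine (Category.assoc _ _ _).trans ((Category.assoc _ _ _).trans ?_)
    refine ((congrArg ((liftAt a.hom η w l).left ≫ ·) hT)).trans ((liftAt_left_fst _ _ _ _).trans ?_)
    refine Eq.trans ?_ (congrArg (· ≫ bcFst b.hom W) (liftAt_left_fst g.left _ _ _)).symm
    exact (liftAt_left_fst _ _ _ _).symm
  · have h1 := Over.w ((Scheme.pointSmallEtale l.1).fiber.map (B.inv ≫ C.hom) (liftAt a.hom η w l))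
    have h2 := Over.w (liftAt g.left (liftMap η g l).1 (liftAt b.hom η w (liftMap η g l)) (liftOver η g l))
    refine (Category.assoc _ _ _).trans ((congrArg (_ ≫ ·) pullback.condition).trans ?_)
    refine Eq.trans ?_ ((Category.assoc _ _ _).trans (congrArg (_ ≫ ·) pullback.condition)).symm
    refine (Category.assoc _ _ _).symm.trans (Eq.trans ?_ (Category.assoc _ _ _))
    exact congrArg (· ≫ g.left) (h1.trans h2.symm)
  · exact (Over.w ((Scheme.pointSmallEtale l.1).fiber.map (B.inv ≫ C.hom) (liftAt a.hom η w l))).trans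
      (Over.w (liftAt g.left (liftMap η g l).1 (liftAt b.hom η w (liftMap η g l)) (liftOver η g l))).symm

/-- The comparison of the stalk with the stalk of the inverse image at a point above. -/
def psi (b : Over S) (l : fLifts b.hom η) :
    (EtCoh.stalk η).obj F ⟶ (EtCoh.stalk l.1).obj ((EtCoh.pull b.hom).obj F) :=
  (EtCoh.stalk η).map (ppUnit F b) ≫ liftStalk b.hom η l _

lemma isIso_psi (b : Over S) (l : fLifts b.hom η) : IsIso (psi F η b l) := by
  obtain ⟨l, rfl⟩ := l
  have h : psi F (l ≫ b.hom) b ⟨l, rfl⟩ = stalkPull b.hom l F := by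
    refine ConcreteCategory.hom_ext _ _ fun c => ?_
    obtain ⟨V, x, t, rfl⟩ := germ_surjective _ _ c
    refine (congrArg (liftStalk b.hom _ ⟨l, rfl⟩ _) (germ_nat _ (ppUnit F b) x t)).trans ?_
    refine (liftStalk_germ b.hom _ ⟨l, rfl⟩ _ x _).trans (Eq.trans ?_ (germ_stalkPull b.hom l F x t).symm)
    rfl
  rw [h]
  infer_instance

/-- The value of a germ of `b_* b⁻¹ F` at a point above. -/
def val (b : Over S) (l : fLifts b.hom η) : (EtCoh.stalk η).obj (pp F b) ⟶ (EtCoh.stalk η).obj F :=
  haveI := isIso_psi F η b l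
  liftStalk b.hom η l _ ≫ inv (psi F η b l)

lemma psi_val (b : Over S) (l : fLifts b.hom η) (p : (EtCoh.stalk η).obj (pp F b)) :
    psi F η b l (val F η b l p) = liftStalk b.hom η l _ p := by
  haveI := isIso_psi F η b l
  exact ConcreteCategory.congr_hom (by rw [val, Category.assoc, IsIso.inv_hom_id, Category.comp_id] :
    val F η b l ≫ psi F η b l = liftStalk b.hom η l _) p

lemma psi_injective (b : Over S) (l : fLifts b.hom η) : Function.Injective (psi F η b l) := by
  haveI := isIso_psi F η b l
  exact (ConcreteCategory.bijective_of_isIso (psi F η b l)).1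

lemma psi_apply (b : Over S) (l : fLifts b.hom η) (c : (EtCoh.stalk η).obj F) :
    psi F η b l c = liftStalk b.hom η l _ ((EtCoh.stalk η).map (ppUnit F b) c) := rfl

lemma val_unit (b : Over S) (l : fLifts b.hom η) (c : (EtCoh.stalk η).obj F) :
    val F η b l ((EtCoh.stalk η).map (ppUnit F b) c) = c :=
  psi_injective F η b l (psi_val F η b l _)

lemma liftStalk_ppMap {a b : Over S} (g : a ⟶ b) (l : fLifts a.hom η) (p : (EtCoh.stalk η).obj (pp F b)) :
    liftStalk a.hom η l _ ((EtCoh.stalk η).map (ppMap F g) p) =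
      liftStalk g.left (liftMap η g l).1 (liftOver η g l) _
        ((EtCoh.stalk (liftMap η g l).1).map (ppU F g) (liftStalk b.hom η (liftMap η g l) _ p)) := by
  refine (congrArg (liftStalk a.hom η l _)
    (ConcreteCategory.congr_hom ((EtCoh.stalk η).map_comp _ _) p)).trans ?_
  refine (liftStalk_cIso η g l _ _).trans ?_
  exact congrArg (liftStalk g.left _ (liftOver η g l) _) (liftStalk_nat b.hom η (liftMap η g l) (ppU F g) p)

lemma val_map {a b : Over S} (g : a ⟶ b) (l : fLifts a.hom η) (p : (EtCoh.stalk η).obj (pp F b)) :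
    val F η a l ((EtCoh.stalk η).map (ppMap F g) p) = val F η b (liftMap η g l) p := by
  refine psi_injective F η a l ((psi_val F η a l _).trans ?_)
  rw [liftStalk_ppMap, ← psi_val, psi_apply, psi_apply, ← liftStalk_ppMap]
  refine congrArg (liftStalk a.hom η l _) ?_
  rw [← ConcreteCategory.comp_apply, ← Functor.map_comp, unit_ppMap]

/-- The values at the points above determine a germ. -/
lemma val_ext (b : Over S) [IsIntegralHom b.hom] {p q : (EtCoh.stalk η).obj (pp F b)}
    (h : ∀ l, val F η b l p = val F η b l q) : p = q :=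
  injective_liftStalk b.hom η _ (funext fun l => by
    dsimp only
    rw [← psi_val, h, psi_val])

/-- A point of the fibre product with the point. -/
abbrev secPt (b : Over S) (l : fLifts b.hom η) :
    Spec (CommRingCat.of Ω) ⟶ pullback b.hom η :=
  pullback.lift l.1 (𝟙 _) (l.2.trans (Category.id_comp η).symm)

/-- A morphism of geometric fibres moves the points above. -/
def liftVia (a b : Over S) (e : pullback a.hom η ⟶ pullback b.hom η)
    (he : e ≫ pullback.snd b.hom η = pullback.snd a.hom η) (l : fLifts a.hom η) : fLifts b.hom η :=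
  ⟨secPt η a l ≫ e ≫ pullback.fst b.hom η, by
    rw [Category.assoc, Category.assoc, pullback.condition, reassoc_of% he, pullback.lift_snd_assoc,
      Category.id_comp]⟩

/-- Families moved along a morphism of geometric fibres come from germs. -/
theorem exists_val_via (a b : Over S) [IsIntegralHom a.hom] (e : pullback a.hom η ⟶ pullback b.hom η)
    (he : e ≫ pullback.snd b.hom η = pullback.snd a.hom η) (p : (EtCoh.stalk η).obj (pp F b)) :
    ∃ p', ∀ l, val F η a l p' = val F η b (liftVia η a b e he l) p := by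
  classical
  obtain ⟨W, w, s, rfl⟩ := germ_surjective _ _ p
  refine (mem_range_liftStalk a.hom η ((EtCoh.pull a.hom).obj F)
    (fun l => psi F η a l (val F η b (liftVia η a b e he l) (germ η (pp F b) w s))) fun l₀ => ?_).imp
      fun p' hp' l => psi_injective F η a l ((psi_val F η a l p').trans (hp' l))
  obtain ⟨V, x, t, ht⟩ := germ_surjective η F (val F η b (liftVia η a b e he l₀) (germ η (pp F b) w s))
  let top : fib η (EtCoh.top S) := Over.homMk η (Category.comp_id _)
  obtain ⟨U, q₁, q₂, u₀, -, hq₁, hq₂⟩ := EtStalk.exists_common η (w := top)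
    (MorphismProperty.Over.homMk W.hom : W ⟶ EtCoh.top S) (MorphismProperty.Over.homMk V.hom : V ⟶ EtCoh.top S)
    w x (Over.OverMorphism.ext (Over.w w)) (Over.OverMorphism.ext (Over.w x))
  let sU := (pp F b).obj.map q₁.op s
  let tU := F.obj.map q₂.op t
  have hs : germ η (pp F b) u₀ sU = germ η (pp F b) w s := by rw [germ_map, hq₁]
  have htU : germ η F u₀ tU = germ η F x t := by rw [germ_map, hq₂]
  let A := (EtCoh.bc b.hom).obj U
  let G : A.left.Opens := ⟨agree ((EtCoh.pull b.hom).obj F) (U := A) sU ((ppUnit F b).hom.app (op U) tU),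
    isOpen_agree _ _ _⟩
  have hval : ∀ m : fLifts b.hom η, fibHom b.hom η u₀ (fpt b.hom η m) ∈ G ↔
      val F η b m (germ η (pp F b) w s) = germ η F x t := fun m => by
    rw [fibHom_fpt]
    refine (mem_agree_iff_germ ((EtCoh.pull b.hom).obj F) (liftAt b.hom η u₀ m) sU
      ((ppUnit F b).hom.app (op U) tU)).trans ?_
    rw [← hs, ← htU, ← (psi_injective F η b m).eq_iff, psi_val, psi_apply, germ_nat]
    erw [liftStalk_germ, liftStalk_germ]
  have hfpt : ∀ l, e (fpt a.hom η l) = fpt b.hom η (liftVia η a b e he l) := fun l => by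
    rw [fpt, ← pt_comp]
    refine (fpt_eq b.hom η _ _ ?_ ?_).symm
    · exact Category.assoc _ _ _
    · rw [Category.assoc, he, pullback.lift_snd]
  refine ⟨U, u₀, ⊤, ((EtCoh.pull a.hom).obj F).obj.map (EtSite.subHom _ ⊤).op ((ppUnit F a).hom.app (op U) tU),
    e ⁻¹ᵁ (fibHom b.hom η u₀ ⁻¹ᵁ G), isClosed_univ, trivial, ?_, fun l hl h => ?_⟩
  · show fibHom b.hom η u₀ (e (fpt a.hom η l₀)) ∈ G
    rw [hfpt, hval]
    exact ht.symm
  · have h' : fibHom b.hom η u₀ (e (fpt a.hom η l)) ∈ G := hl
    rw [hfpt, hval] at h'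
    dsimp only
    rw [h', ← htU, psi_apply, germ_map, subFib_map, germ_nat]
    exact (liftStalk_germ a.hom η l ((EtCoh.pull a.hom).obj F) u₀ _).symm

end Groth.Agent.DescInt13

end
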